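import Groth.Agent.EtaleDeep.Olivier.Normal
import Groth.Agent.Hensel1.StrictBaseChange

/-!
# Olivier's theorem
-/

set_option autoImplicit false
set_option linter.style.haveILetI false

universe u

open TensorProduct IsLocalRing

namespace Groth.EtaleDeep.Olivier

theorem exists_add_mem {A B : Type u} [CommRing A] [CommRing B] [HenselianLocalRing A]
    [IsLocalRing B] [IsSepClosed (IsLocalRing.ResidueField A)] [Algebra A B]
    [IsLocalHom (algebraMap A B)] [Algebra.WeaklyEtale A B] (b : B) :
    ∃ a : A, b - algebraMap A B a ∈ maximalIdeal B := by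
  let k := ResidueField A
  let K := ResidueField B
  let φ : k ⊗[A] B →ₐ[k] K :=
    Algebra.TensorProduct.lift (Algebra.ofId _ _) (IsScalarTower.toAlgHom A B K) fun _ _ => .all _ _
  obtain ⟨f, hf, hfz⟩ := (Groth.EtaleAlgebra.isSepElem_of_weaklyEtale (K := k) ((1 : k) ⊗ₜ[A] b)).map φ
  have hb : φ ((1 : k) ⊗ₜ[A] b) = residue B b := by
    rw [Algebra.TensorProduct.lift_tmul, map_one, one_mul]
    rfl
  rw [hb] at hfz
  obtain ⟨c, hc⟩ : residue B b ∈ (algebraMap k K).range := by
    have hint : IsIntegral k (residue B b) := isAlgebraic_iff_isIntegral.1 ⟨f, hf.ne_zero, hfz⟩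
    have hsep : (minpoly k (residue B b)).Separable := hf.of_dvd (minpoly.dvd _ _ hfz)
    have hdeg : (minpoly k (residue B b)).degree = 1 :=
      IsSepClosed.degree_eq_one_of_irreducible k (minpoly.irreducible hint) hsep
    exact minpoly.mem_range_of_degree_eq_one k (residue B b) hdeg
  obtain ⟨a, rfl⟩ := IsLocalRing.residue_surjective c
  refine ⟨a, (IsLocalRing.residue_eq_zero_iff _).1 ?_⟩
  rw [map_sub, sub_eq_zero, ← hc]
  rfl

theorem isLocalRing_integralClosure (A L : Type u) [CommRing A] [HenselianLocalRing A] [Field L]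
    [Algebra A L] : IsLocalRing (integralClosure A L) := by
  refine IsLocalRing.of_isUnit_or_isUnit_one_sub_self fun x => ?_
  let V : Subalgebra A L := Algebra.adjoin A {(x : L)}
  have hxi : IsIntegral A (x : L) := x.2
  have : Module.Finite A V := Module.Finite.iff_fg.mpr hxi.fg_adjoin_singleton
  have := Groth.Hensel1.isLocalRing_of_finite_of_idempotent A V
    fun _ he => IsIdempotentElem.iff_eq_zero_or_one.1 he
  have hVU : V ≤ integralClosure A L := Algebra.adjoin_le (Set.singleton_subset_iff.mpr x.2)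
  let v : V := ⟨x, Algebra.self_mem_adjoin_singleton A _⟩
  rcases isUnit_or_isUnit_one_sub_self v with h | h
  · exact Or.inl (h.map (Subalgebra.inclusion hVU))
  · have h' := h.map (Subalgebra.inclusion hVU)
    rw [map_sub, map_one] at h'
    exact Or.inr h'

theorem isLocalRing_tensor {A B : Type u} [CommRing A] [CommRing B] [HenselianLocalRing A]
    [IsLocalRing B] [IsSepClosed (IsLocalRing.ResidueField A)] [Algebra A B]
    [IsLocalHom (algebraMap A B)] [Algebra.WeaklyEtale A B]
    (A' : Type u) [CommRing A'] [Algebra A A'] [IsLocalRing A'] [Algebra.IsIntegral A A']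
    [Nontrivial (A' ⊗[A] B)] :
    IsLocalRing (A' ⊗[A] B) := by
  let ιA : A' →+* A' ⊗[A] B := Algebra.TensorProduct.includeLeftRingHom
  let ιB : B →+* A' ⊗[A] B :=
    (Algebra.TensorProduct.includeRight : B →ₐ[A] A' ⊗[A] B).toRingHom
  let J : Ideal (A' ⊗[A] B) := (maximalIdeal A').map ιA ⊔ (maximalIdeal B).map ιB
  have hcomm : ιB.comp (algebraMap A B) = ιA.comp (algebraMap A A') := RingHom.ext fun a =>
    ((Algebra.TensorProduct.includeRight : B →ₐ[A] A' ⊗[A] B).commutes a).trans
      ((Algebra.TensorProduct.includeLeft : A' →ₐ[A] A' ⊗[A] B).commutes a).symm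
  have hdec : ∀ t : A' ⊗[A] B, ∃ a : A', t - ιA a ∈ J := by
    intro t
    induction t using TensorProduct.induction_on with
    | zero => exact ⟨0, by simp⟩
    | tmul c b =>
      obtain ⟨a, ha⟩ := exists_add_mem (A := A) b
      refine ⟨c * algebraMap A A' a, ?_⟩
      have h1 : c ⊗ₜ[A] b - ιA (c * algebraMap A A' a) = ιA c * ιB (b - algebraMap A B a) := by
        rw [map_sub, mul_sub, map_mul, ← RingHom.comp_apply ιB, hcomm]
        simp [ιA, ιB]
      rw [h1]
      exact J.mul_mem_left _ (Ideal.mem_sup_right (Ideal.mem_map_of_mem _ ha))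
    | add x y hx hy =>
      obtain ⟨a, ha⟩ := hx
      obtain ⟨b, hb⟩ := hy
      exact ⟨a + b, by rw [map_add, add_sub_add_comm]; exact J.add_mem ha hb⟩
  have hJ : ∀ M : Ideal (A' ⊗[A] B), M.IsMaximal → M = J := by
    intro M hM
    letI : Algebra B (A' ⊗[A] B) := Algebra.TensorProduct.rightAlgebra
    have : Algebra.IsIntegral B (A' ⊗[A] B) := ⟨fun t => by
      induction t using TensorProduct.induction_on with
      | zero => exact isIntegral_zero
      | tmul c b =>
        have h := ((Algebra.IsIntegral.isIntegral (R := A) c).map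
          (Algebra.TensorProduct.includeLeft : A' →ₐ[A] A' ⊗[A] B)).tower_top (A := B)
        have h2 := h.mul (isIntegral_algebraMap (R := B) (A := A' ⊗[A] B) (x := b))
        rwa [show (Algebra.TensorProduct.includeLeft : A' →ₐ[A] A' ⊗[A] B) c *
          algebraMap B (A' ⊗[A] B) b = c ⊗ₜ b by simp [RingHom.algebraMap_toAlgebra]] at h2
      | add x y hx hy => exact hx.add hy⟩
    have hMB : M.comap ιB = maximalIdeal B := IsLocalRing.eq_maximalIdeal
      (Ideal.isMaximal_comap_of_isIntegral_of_isMaximal (R := B) M)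
    have h1 : (M.comap ιA).comap (algebraMap A A') = maximalIdeal A := by
      rw [Ideal.comap_comap, ← hcomm, ← Ideal.comap_comap, hMB]
      exact ((IsLocalRing.local_hom_TFAE (algebraMap A B)).out 0 4).mp ‹IsLocalHom (algebraMap A B)›
    have hMA : M.comap ιA = maximalIdeal A' := by
      have : (M.comap ιA).IsPrime := hM.isPrime.comap _
      exact IsLocalRing.eq_maximalIdeal (Ideal.isMaximal_of_isIntegral_of_isMaximal_comap (R := A) _
        (h1 ▸ maximalIdeal.isMaximal A))
    have hJM : J ≤ M := sup_le (Ideal.map_le_iff_le_comap.2 hMA.ge)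
      (Ideal.map_le_iff_le_comap.2 hMB.ge)
    refine le_antisymm (fun t ht => ?_) hJM
    obtain ⟨a, ha⟩ := hdec t
    have ha' : a ∈ maximalIdeal A' := hMA.le (show ιA a ∈ M from by
      have h2 := M.sub_mem ht (hJM ha)
      rwa [sub_sub_cancel] at h2)
    have h3 := J.add_mem ha (Ideal.mem_sup_left (Ideal.mem_map_of_mem ιA ha'))
    rwa [sub_add_cancel] at h3
  obtain ⟨M, hM⟩ := Ideal.exists_maximal (A' ⊗[A] B)
  exact IsLocalRing.of_unique_max_ideal ⟨M, hM, fun M' hM' => (hJ M' hM').trans (hJ M hM).symm⟩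

/-- Two maps to an algebraically closed field agree. -/
theorem algHom_eq {A B : Type u} [CommRing A] [CommRing B] [HenselianLocalRing A]
    [IsLocalRing B] [IsSepClosed (IsLocalRing.ResidueField A)] [Algebra A B]
    [IsLocalHom (algebraMap A B)] [Algebra.WeaklyEtale A B]
    (L : Type u) [Field L] [IsAlgClosed L] [Algebra A L] (f₁ f₂ : B →ₐ[A] L) : f₁ = f₂ := by
  let A' := integralClosure A L
  have := isLocalRing_integralClosure A L
  have : Algebra.IsIntegral A A' := IsIntegralClosure.isIntegral_algebra A L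
  let F := L ⊗[A] B
  have : Nontrivial F :=
    (Algebra.TensorProduct.lift (AlgHom.id A L) f₁ fun _ _ => .all _ _).toRingHom.domain_nontrivial
  have : Nontrivial (A' ⊗[A] B) := (incl B A').toRingHom.domain_nontrivial
  have := isLocalRing_tensor (A := A) (B := B) A'
  have hinj : Function.Injective (incl B A') :=
    Module.Flat.rTensor_preserves_injective_linearMap (M := B) A'.val.toLinearMap
      Subtype.val_injective
  have hint : IntClosed A' := fun p y hp hc hy => by
    have hl : p ∈ Polynomial.lifts (algebraMap A' L) := by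
      rw [Polynomial.lifts_iff_coeff_lifts]
      exact fun i => ⟨⟨p.coeff i, hc i⟩, rfl⟩
    obtain ⟨q, hq, -, hqm⟩ := Polynomial.lifts_and_degree_eq_and_monic hl hp
    exact isIntegral_trans (A := A') y ⟨q, hqm, by rw [← Polynomial.eval_map, hq]; exact hy⟩
  have hidem : ∀ e : F, IsIdempotentElem e → e = 0 ∨ e = 1 := by
    intro e he
    obtain ⟨t, rfl⟩ := mem_range_of_intClosed A' hint he
    have ht : IsIdempotentElem t := hinj (by rw [map_mul]; exact he)
    rcases isUnit_or_isUnit_one_sub_self t with hu | hu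
    · exact Or.inr (by
        rw [show t = 1 from hu.mul_left_cancel (by rw [mul_one]; exact ht)]
        exact map_one _)
    · exact Or.inl (by
        rw [show t = 0 from hu.mul_left_cancel (by rw [mul_zero, sub_mul, one_mul, ht.eq, sub_self])]
        exact map_zero _)
  have hreg := Groth.EtaleAlgebra.regular_of_weaklyEtale (R := L) (fun a => ⟨a⁻¹, by
    rcases eq_or_ne a 0 with h | h <;> simp [h]⟩) F
  have hF : IsField F := by
    refine ⟨⟨0, 1, zero_ne_one⟩, mul_comm, fun {z} hz => ?_⟩
    obtain ⟨w, hw⟩ := hreg z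
    rcases hidem (z * w) (by
      change z * w * (z * w) = z * w
      rw [← mul_assoc, ← hw]) with h | h
    · exact absurd (by rw [hw, h, zero_mul]) hz
    · exact ⟨w, h⟩
  letI : Field F := hF.toField
  have hsurj : Function.Surjective (algebraMap L F) := fun z => by
    obtain ⟨g, hg, hgz⟩ := Groth.EtaleAlgebra.isSepElem_of_weaklyEtale (K := L) z
    have hint' : IsIntegral L z := isAlgebraic_iff_isIntegral.1 ⟨g, hg.ne_zero, hgz⟩
    exact minpoly.mem_range_of_degree_eq_one L z
      (IsAlgClosed.degree_eq_one_of_irreducible L (minpoly.irreducible hint'))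
  let Φ₁ : F →ₐ[L] L := Algebra.TensorProduct.lift (AlgHom.id L L) f₁ fun _ _ => .all _ _
  let Φ₂ : F →ₐ[L] L := Algebra.TensorProduct.lift (AlgHom.id L L) f₂ fun _ _ => .all _ _
  refine AlgHom.ext fun b => ?_
  obtain ⟨l, hl⟩ := hsurj ((1 : L) ⊗ₜ[A] b)
  have h₁ : Φ₁ ((1 : L) ⊗ₜ[A] b) = f₁ b := by
    rw [Algebra.TensorProduct.lift_tmul, map_one, one_mul]
  have h₂ : Φ₂ ((1 : L) ⊗ₜ[A] b) = f₂ b := by
    rw [Algebra.TensorProduct.lift_tmul, map_one, one_mul]
  rw [← h₁, ← h₂, ← hl, AlgHom.commutes, AlgHom.commutes]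

/-- Olivier's theorem. -/
theorem bijective_of_weaklyEtale {A B : Type u} [CommRing A] [CommRing B] [HenselianLocalRing A]
    [IsLocalRing B] [IsSepClosed (IsLocalRing.ResidueField A)] [Algebra A B]
    [IsLocalHom (algebraMap A B)] [Algebra.WeaklyEtale A B] :
    Function.Bijective (algebraMap A B) := by
  let μ : B ⊗[A] B →ₐ[A] B := Algebra.TensorProduct.lmul' A
  let I : Ideal (B ⊗[A] B) := RingHom.ker μ
  have hpure : I.Pure := by
    let _ := μ.toRingHom.toAlgebra
    have : Module.Flat (B ⊗[A] B) B := Algebra.WeaklyEtale.flat_lmul' A B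
    let e := Ideal.quotientKerAlgEquivOfSurjective (f := Algebra.ofId (B ⊗[A] B) B)
      (fun b => ⟨b ⊗ₜ 1, by simp [μ, RingHom.algebraMap_toAlgebra]⟩)
    exact Module.Flat.of_linearEquiv e.toLinearEquiv
  have hprime : ∀ (P : Ideal (B ⊗[A] B)) [P.IsPrime], I ≤ P := by
    intro P _ x hx
    let L := AlgebraicClosure P.ResidueField
    let π : B ⊗[A] B →+* L := (algebraMap P.ResidueField L).comp (algebraMap _ P.ResidueField)
    letI : Algebra A L := (π.comp (algebraMap A (B ⊗[A] B))).toAlgebra
    let πA : B ⊗[A] B →ₐ[A] L := AlgHom.mk π fun _ => rfl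
    let f₁ := πA.comp (Algebra.TensorProduct.includeLeft : B →ₐ[A] B ⊗[A] B)
    let f₂ := πA.comp (Algebra.TensorProduct.includeRight : B →ₐ[A] B ⊗[A] B)
    have h12 : f₁ = f₂ := algHom_eq L f₁ f₂
    have hfac : πA = f₁.comp μ := by
      refine Algebra.TensorProduct.ext' fun a b => ?_
      rw [AlgHom.comp_apply, Algebra.TensorProduct.lmul'_apply_tmul, map_mul]
      conv_rhs => arg 2; rw [h12]
      change πA _ = πA _ * πA _
      rw [← map_mul]
      simp
    have h0 : π x = 0 := by
      change πA x = 0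
      rw [hfac, AlgHom.comp_apply, show μ x = 0 from hx, map_zero]
    rw [RingHom.comp_apply, map_eq_zero_iff _ (RingHom.injective _),
      Ideal.algebraMap_residueField_eq_zero] at h0
    exact h0
  have hI : ∀ x ∈ I, x = 0 := by
    intro x hx
    obtain ⟨y, hy, hxy⟩ := Ideal.exists_eq_mul_of_pure (I := I) hx
    have hnil : IsNilpotent y := nilpotent_iff_mem_prime.2 fun P hP => hprime P hy
    refine (hnil.isUnit_one_sub.mul_left_eq_zero (a := x)).1 ?_
    rw [mul_sub, mul_one, ← hxy, sub_self]
  have : Module.FaithfullyFlat A B := Module.FaithfullyFlat.of_flat_of_isLocalHom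
  refine (Module.FaithfullyFlat.lTensor_bijective_iff_bijective A B (Algebra.linearMap A B)).1 ?_
  have hμ : Function.Injective μ := (injective_iff_map_eq_zero μ).2 hI
  constructor
  · intro x y hxy
    have h : ∀ z, μ ((Algebra.linearMap A B).lTensor B z) = TensorProduct.rid A B z := fun z => by
      induction z using TensorProduct.induction_on with
      | zero => simp
      | tmul b a => simp [μ, Algebra.smul_def, mul_comm]
      | add a b ha hb => simp only [map_add, ha, hb]
    exact (TensorProduct.rid A B).injective (by rw [← h, ← h, hxy])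
  · intro z
    refine ⟨μ z ⊗ₜ 1, hμ ?_⟩
    simp [μ]

end Groth.EtaleDeep.Olivier
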