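import Groth.Agent.EtaleDeep.Olivier.Valuation

/-!
# Idempotents of the generic fibre over integrally closed subalgebras of a field
-/

set_option autoImplicit false
set_option linter.style.haveILetI false

universe u

open TensorProduct

namespace Groth.EtaleDeep.Olivier

variable {A L B : Type u} [CommRing A] [Field L] [Algebra A L] [CommRing B] [Algebra A B]

/-- `R` contains the roots in `L` of monic polynomials with coefficients in `R`. -/
def IntClosed (R : Subalgebra A L) : Prop :=
  ∀ (p : Polynomial L) (y : L), p.Monic → (∀ i, p.coeff i ∈ R) → p.eval y = 0 → y ∈ R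

variable (B) in
/-- `R ⊗ B → L ⊗ B`. -/
noncomputable def incl (R : Subalgebra A L) : R ⊗[A] B →ₐ[A] L ⊗[A] B :=
  Algebra.TensorProduct.map R.val (AlgHom.id A B)

theorem mem_range_incl_mono {R R' : Subalgebra A L} (h : R ≤ R') {e : L ⊗[A] B}
    (he : e ∈ (incl B R).range) : e ∈ (incl B R').range := by
  obtain ⟨z, rfl⟩ := he
  refine ⟨Algebra.TensorProduct.map (Subalgebra.inclusion h) (AlgHom.id A B) z, ?_⟩
  induction z using TensorProduct.induction_on with
  | zero => simp
  | tmul r b => simp [incl]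
  | add a b ha hb => simp only [map_add] at ha hb ⊢; rw [ha, hb]

theorem mem_range_incl_inf [Module.Flat A B] {R R' : Subalgebra A L} {e : L ⊗[A] B}
    (he : e ∈ (incl B R).range) (he' : e ∈ (incl B R').range) :
    e ∈ (incl B (R ⊓ R')).range := by
  let M := Subalgebra.toSubmodule R
  let M' := Subalgebra.toSubmodule R'
  let g : L →ₗ[A] (L ⧸ M) × (L ⧸ M') := M.mkQ.prod M'.mkQ
  let ι : (R ⊓ R' : Subalgebra A L) →ₗ[A] L := (R ⊓ R').val.toLinearMap
  have hex : Function.Exact ι g := by
    intro x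
    constructor
    · intro hx
      have hx' : x ∈ M ∧ x ∈ M' :=
        ⟨(Submodule.Quotient.mk_eq_zero M).1 (congrArg Prod.fst hx),
          (Submodule.Quotient.mk_eq_zero M').1 (congrArg Prod.snd hx)⟩
      exact ⟨⟨x, hx'⟩, rfl⟩
    · rintro ⟨x, rfl⟩
      exact Prod.ext ((Submodule.Quotient.mk_eq_zero M).2 x.2.1)
        ((Submodule.Quotient.mk_eq_zero M').2 x.2.2)
  have h1 : M.mkQ.rTensor B e = 0 := by
    clear he'
    obtain ⟨z, rfl⟩ := he
    induction z using TensorProduct.induction_on with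
    | zero => simp
    | tmul r b =>
      change M.mkQ (r : L) ⊗ₜ[A] b = 0
      rw [show M.mkQ (r : L) = 0 from (Submodule.Quotient.mk_eq_zero M).2 r.2, zero_tmul]
    | add a b ha hb => simp only [map_add] at ha hb ⊢; rw [ha, hb, add_zero]
  have h2 : M'.mkQ.rTensor B e = 0 := by
    clear he h1
    obtain ⟨z, rfl⟩ := he'
    induction z using TensorProduct.induction_on with
    | zero => simp
    | tmul r b =>
      change M'.mkQ (r : L) ⊗ₜ[A] b = 0
      rw [show M'.mkQ (r : L) = 0 from (Submodule.Quotient.mk_eq_zero M').2 r.2, zero_tmul]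
    | add a b ha hb => simp only [map_add] at ha hb ⊢; rw [ha, hb, add_zero]
  have h3 : g.rTensor B e = 0 := by
    have hg : g = (LinearMap.inl A _ _).comp M.mkQ + (LinearMap.inr A _ _).comp M'.mkQ := by
      ext x <;> simp [g]
    rw [hg, LinearMap.rTensor_add, LinearMap.add_apply, LinearMap.rTensor_comp,
      LinearMap.rTensor_comp, LinearMap.comp_apply, LinearMap.comp_apply, h1, h2, map_zero,
      map_zero, add_zero]
  obtain ⟨z, hz⟩ := (Module.Flat.rTensor_exact B hex e).1 h3
  exact ⟨z, hz⟩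

theorem exists_finset_of_mem_range {R : Subalgebra A L} {e : L ⊗[A] B}
    (he : e ∈ (incl B R).range) : ∃ s : Finset L, (s : Set L) ⊆ R ∧
      ∀ R' : Subalgebra A L, (s : Set L) ⊆ R' → e ∈ (incl B R').range := by
  classical
  obtain ⟨z, rfl⟩ := he
  induction z using TensorProduct.induction_on with
  | zero => exact ⟨∅, by simp, fun R' _ => by simp⟩
  | tmul r b => exact ⟨{(r : L)}, by simp, fun R' h => ⟨⟨r, h (by simp)⟩ ⊗ₜ b, rfl⟩⟩
  | add a b ha hb =>
    obtain ⟨s, hs, hs'⟩ := ha
    obtain ⟨t, ht, ht'⟩ := hb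
    refine ⟨s ∪ t, by simp [hs, ht], fun R' h => ?_⟩
    rw [Finset.coe_union, Set.union_subset_iff] at h
    simp only [map_add]
    exact add_mem (hs' R' h.1) (ht' R' h.2)

theorem isIntegrallyClosedIn_of_intClosed {R : Subalgebra A L} (h : IntClosed R) :
    IsIntegrallyClosedIn R.toSubring L := by
  rw [Subring.isIntegrallyClosedIn_iff]
  rintro x ⟨p, hp, hpx⟩
  exact h (p.map R.toSubring.subtype) x (hp.map _) (fun i => by
    rw [Polynomial.coeff_map]; exact (p.coeff i).2) (by rw [Polynomial.eval_map]; exact hpx)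

theorem intClosed_valuation (V : ValuationSubring L) (p : Polynomial L) (y : L) (hp : p.Monic)
    (hc : ∀ i, p.coeff i ∈ V) (hy : p.eval y = 0) : y ∈ V := by
  have hl : p ∈ Polynomial.lifts (algebraMap V L) := by
    rw [Polynomial.lifts_iff_coeff_lifts]
    exact fun i => ⟨⟨p.coeff i, hc i⟩, rfl⟩
  obtain ⟨q, hq, -, hqm⟩ := Polynomial.lifts_and_degree_eq_and_monic hl hp
  have hint : IsIntegral V y := ⟨q, hqm, by rw [← Polynomial.eval_map, hq]; exact hy⟩
  obtain ⟨z, hz⟩ := IsIntegrallyClosed.isIntegral_iff.1 hint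
  exact hz ▸ z.2

theorem eq_iInf_valuation {R : Subalgebra A L} (h : IntClosed R) {y : L}
    (hy : ∀ V : ValuationSubring L, (R : Set L) ⊆ V → y ∈ V) : y ∈ R := by
  have := isIntegrallyClosedIn_of_intClosed h
  by_contra hyR
  obtain ⟨V, hV, hyV⟩ := Subring.exists_le_valuationSubring_of_isIntegrallyClosedIn
    (R := R.toSubring) (x := y) hyR
  exact hyV (hy V hV)

/-- An integrally closed overalgebra containing `x`. -/
theorem exists_hull (R : Subalgebra A L) (x : L) :
    ∃ R₁ : Subalgebra A L, R ≤ R₁ ∧ x ∈ R₁ ∧ IntClosed R₁ ∧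
      ∀ V : ValuationSubring L, (R : Set L) ⊆ V → x ∈ V → (R₁ : Set L) ⊆ V := by
  let R₁ : Subalgebra A L :=
    { carrier := {y | ∀ V : ValuationSubring L, (R : Set L) ⊆ V → x ∈ V → y ∈ V}
      mul_mem' := fun ha hb V h h' => mul_mem (ha V h h') (hb V h h')
      add_mem' := fun ha hb V h h' => add_mem (ha V h h') (hb V h h')
      algebraMap_mem' := fun a V h _ => h (R.algebraMap_mem a) }
  exact ⟨R₁, fun r hr V h _ => h hr, fun V _ h' => h',
    fun p y hp hc hy V h h' => intClosed_valuation V p y hp (fun i => hc i V h h') hy,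
    fun V h h' y hy => hy V h h'⟩

/-- For an integrally closed `A' ⊆ L`, idempotents of `L ⊗ B` come from `A' ⊗ B`. -/
theorem mem_range_of_intClosed [Algebra.WeaklyEtale A B] (A' : Subalgebra A L) (hA' : IntClosed A')
    {e : L ⊗[A] B} (he : IsIdempotentElem e) : e ∈ (incl B A').range := by
  by_contra hne
  let S : Set (Subalgebra A L) := {R | IntClosed R ∧ e ∉ (incl B R).range}
  obtain ⟨R, -, ⟨hR, hRe⟩, hmax⟩ := zorn_le_nonempty₀ S (fun c hc hchain R₀ hR₀ => by
    classical
    have hne' : Nonempty c := ⟨⟨R₀, hR₀⟩⟩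
    have hdir : Directed (· ≤ ·) fun r : c => (r : Subalgebra A L) :=
      hchain.directedOn.directed_val
    let U : Subalgebra A L := ⨆ r : c, (r : Subalgebra A L)
    have hU : (U : Set L) = ⋃ r : c, ((r : Subalgebra A L) : Set L) :=
      Subalgebra.coe_iSup_of_directed hdir
    have hfin : ∀ s : Finset L, (s : Set L) ⊆ U → ∃ r : c, (s : Set L) ⊆ (r : Subalgebra A L) := by
      intro s hs
      rw [hU] at hs
      induction s using Finset.induction_on with
      | empty => exact ⟨hne'.some, by simp⟩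
      | insert a s _ ih =>
        rw [Finset.coe_insert, Set.insert_subset_iff] at hs
        obtain ⟨r, hr⟩ := ih hs.2
        obtain ⟨r', hr'⟩ := Set.mem_iUnion.1 hs.1
        obtain ⟨k, hk, hk'⟩ := hdir r r'
        exact ⟨k, by rw [Finset.coe_insert, Set.insert_subset_iff]; exact ⟨hk' hr', hr.trans hk⟩⟩
    refine ⟨U, ⟨fun p y hp hcoeff hy => ?_, fun he' => ?_⟩,
      fun r hr => le_iSup (fun r : c => (r : Subalgebra A L)) ⟨r, hr⟩⟩
    · obtain ⟨r, hr⟩ := hfin (p.support.image p.coeff) (fun z hz => by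
        obtain ⟨i, -, rfl⟩ := Finset.mem_image.1 hz
        exact hcoeff i)
      refine le_iSup (fun r : c => (r : Subalgebra A L)) r ((hc r.2).1 p y hp (fun i => ?_) hy)
      by_cases hi : i ∈ p.support
      · exact hr (Finset.mem_image_of_mem _ hi)
      · rw [Polynomial.notMem_support_iff.1 hi]; exact zero_mem _
    · obtain ⟨s, hs, hs'⟩ := exists_finset_of_mem_range he'
      obtain ⟨r, hr⟩ := hfin s hs
      exact (hc r.2).2 (hs' r hr)) A' ⟨hA', hne⟩
  have hval : ∀ x : L, x ∈ R ∨ x⁻¹ ∈ R := by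
    intro x
    by_contra! hx
    obtain ⟨R₁, hR₁, hx₁, hR₁c, hR₁V⟩ := exists_hull R x
    obtain ⟨R₂, hR₂, hx₂, hR₂c, hR₂V⟩ := exists_hull R x⁻¹
    have h1 : e ∈ (incl B R₁).range := by
      by_contra h
      exact hx.1 (hmax ⟨hR₁c, h⟩ hR₁ hx₁)
    have h2 : e ∈ (incl B R₂).range := by
      by_contra h
      exact hx.2 (hmax ⟨hR₂c, h⟩ hR₂ hx₂)
    refine hRe (mem_range_incl_mono ?_ (mem_range_incl_inf h1 h2))
    intro y hy
    refine eq_iInf_valuation hR fun V hV => ?_
    rcases V.mem_or_inv_mem x with h | h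
    · exact hR₁V V hV h hy.1
    · exact hR₂V V hV h hy.2
  have : IsDomain R := inferInstance
  have : ValuationRing R := by
    refine { cond' := fun a b => ?_ }
    by_cases ha : (a : L) = 0
    · exact ⟨0, Or.inr (Subtype.ext (by simp [ha]))⟩
    by_cases hb : (b : L) = 0
    · exact ⟨0, Or.inl (Subtype.ext (by simp [hb]))⟩
    rcases hval ((b : L) / a) with h | h
    · exact ⟨⟨_, h⟩, Or.inl (Subtype.ext (mul_div_cancel₀ _ ha))⟩
    · exact ⟨⟨_, h⟩, Or.inr (Subtype.ext (by
        change (b : L) * ((b : L) / a)⁻¹ = a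
        field_simp))⟩
  suffices h : e ∈ (incl B R).toRingHom.range from hRe h
  refine mem_range_of_valuationRing (V := R) (C := R ⊗[A] B)
    (ψ := (incl B R).toRingHom) (fun r hr => ?_) (fun x => ?_) he
  · change IsUnit (Algebra.TensorProduct.map R.val (AlgHom.id A B) (r ⊗ₜ 1))
    rw [Algebra.TensorProduct.map_tmul, map_one]
    exact (isUnit_iff_ne_zero.2 fun h => hr (Subtype.ext h)).map
      (Algebra.TensorProduct.includeLeft : L →ₐ[A] L ⊗[A] B)
  · induction x using TensorProduct.induction_on with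
    | zero => exact ⟨1, one_ne_zero, 0, by simp⟩
    | tmul l b =>
      rcases hval l with h | h
      · exact ⟨1, one_ne_zero, ⟨l, h⟩ ⊗ₜ b, by
          rw [map_one, map_one, one_mul]; rfl⟩
      · by_cases hl : l = 0
        · exact ⟨1, one_ne_zero, 0, by simp [hl]⟩
        refine ⟨⟨l⁻¹, h⟩, fun h0 => inv_ne_zero hl (congrArg Subtype.val h0), 1 ⊗ₜ b, ?_⟩
        change (l⁻¹ ⊗ₜ[A] (1 : B)) * (l ⊗ₜ[A] b) = ((1 : L) ⊗ₜ[A] b)
        rw [Algebra.TensorProduct.tmul_mul_tmul, inv_mul_cancel₀ hl, one_mul]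
    | add x y hx hy =>
      obtain ⟨r, hr, c, hc⟩ := hx
      obtain ⟨s, hs, d, hd⟩ := hy
      refine ⟨r * s, mul_ne_zero hr hs,
        algebraMap R (R ⊗[A] B) s * c + algebraMap R (R ⊗[A] B) r * d, ?_⟩
      simp only [map_mul, map_add] at hc hd ⊢
      rw [← hc, ← hd]
      ring

end Groth.EtaleDeep.Olivier
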