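import Groth.Agent.EtaleAlgebra.WeaklyEtaleField
import Groth.Agent.EtaleDeep.IndEt.ProfiniteSpec
import Groth.Prelude.Def_ProEtW

/-!
# Weakly etale algebras over valuation rings and normal domains
-/

set_option autoImplicit false
set_option linter.style.haveILetI false

universe u

open TensorProduct

namespace Groth.EtaleDeep.Olivier

/-- Weakly etale algebras have algebraic residue field extensions. -/
theorem algebraicResidueExtensions_of_weaklyEtale (A B : Type u) [CommRing A] [CommRing B]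
    [Algebra A B] [Algebra.WeaklyEtale A B] : ProEtW.AlgebraicResidueExtensions A B := by
  intro q hq
  let p := q.comap (algebraMap A B)
  letI : Algebra p.ResidueField q.ResidueField :=
    (Ideal.ResidueField.mapₐ p q (Algebra.ofId A B) rfl).toRingHom.toAlgebra
  have : IsScalarTower A p.ResidueField q.ResidueField := IsScalarTower.of_algebraMap_eq
    fun a => ((Ideal.ResidueField.mapₐ p q (Algebra.ofId A B) rfl).commutes a).symm
  let φ : p.ResidueField ⊗[A] B →ₐ[p.ResidueField] q.ResidueField :=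
    Algebra.TensorProduct.lift (Algebra.ofId _ _) (IsScalarTower.toAlgHom A B q.ResidueField)
      fun _ _ => .all _ _
  letI : Algebra (A ⧸ p) q.ResidueField :=
    ((algebraMap (B ⧸ q) q.ResidueField).comp (algebraMap (A ⧸ p) (B ⧸ q))).toAlgebra
  have : IsScalarTower (A ⧸ p) (B ⧸ q) q.ResidueField := IsScalarTower.of_algebraMap_eq fun _ => rfl
  have : IsScalarTower (A ⧸ p) p.ResidueField q.ResidueField := IsScalarTower.of_algebraMap_eq'
    (Ideal.Quotient.ringHom_ext (RingHom.ext fun a => by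
      change algebraMap (B ⧸ q) q.ResidueField (Ideal.Quotient.mk q (algebraMap A B a)) =
        algebraMap p.ResidueField q.ResidueField (algebraMap (A ⧸ p) p.ResidueField (Ideal.Quotient.mk p a))
      rw [show algebraMap (A ⧸ p) p.ResidueField (Ideal.Quotient.mk p a) = algebraMap A p.ResidueField a
        from rfl, ← IsScalarTower.algebraMap_apply A p.ResidueField q.ResidueField,
        show algebraMap (B ⧸ q) q.ResidueField (Ideal.Quotient.mk q (algebraMap A B a)) =
          algebraMap B q.ResidueField (algebraMap A B a) from rfl,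
        ← IsScalarTower.algebraMap_apply A B q.ResidueField]))
  refine ⟨fun y => ?_⟩
  obtain ⟨b, rfl⟩ := Ideal.Quotient.mk_surjective y
  obtain ⟨f, hf, hfz⟩ := (Groth.EtaleAlgebra.isSepElem_of_weaklyEtale
    (K := p.ResidueField) ((1 : p.ResidueField) ⊗ₜ[A] b)).map φ
  have halg : IsAlgebraic p.ResidueField (algebraMap (B ⧸ q) q.ResidueField (Ideal.Quotient.mk q b)) :=
    ⟨f, hf.ne_zero, by
      rw [show φ ((1 : p.ResidueField) ⊗ₜ[A] b) = algebraMap B q.ResidueField b by simp [φ]] at hfz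
      exact hfz⟩
  exact (isAlgebraic_algebraMap_iff (IsFractionRing.injective (B ⧸ q) q.ResidueField)).1
    ((IsFractionRing.isAlgebraic_iff (A ⧸ p) p.ResidueField q.ResidueField).2 halg)

/-- Primes of a weakly etale algebra over the same prime are incomparable. -/
theorem incomparable_of_weaklyEtale {A B : Type u} [CommRing A] [CommRing B]
    [Algebra A B] [Algebra.WeaklyEtale A B] (q q' : PrimeSpectrum B)
    (he : q.asIdeal.comap (algebraMap A B) = q'.asIdeal.comap (algebraMap A B))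
    (hle : q.asIdeal ≤ q'.asIdeal) : q = q' :=
  IndEt.incomparable_of_algebraicResidue (algebraicResidueExtensions_of_weaklyEtale A B) q q' he hle

theorem flat_of_comap_eq_bot {V B : Type u} [CommRing V] [IsDomain V] [ValuationRing V] [CommRing B]
    [Algebra V B] (q : Ideal B) [q.IsPrime] (h : q.comap (algebraMap V B) = ⊥) :
    Module.Flat V (B ⧸ q) := by
  rw [Module.Flat.flat_iff_torsion_eq_bot_of_isBezout, eq_bot_iff]
  rintro m ⟨⟨r, hr⟩, hm⟩
  change m = 0
  have hm' : algebraMap V (B ⧸ q) r * m = 0 := by rw [← Algebra.smul_def]; exact hm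
  refine (mul_eq_zero.1 hm').resolve_left fun h0 => nonZeroDivisors.ne_zero hr ?_
  have h1 : algebraMap V B r ∈ q := Ideal.Quotient.eq_zero_iff_mem.1 h0
  have : r ∈ q.comap (algebraMap V B) := Ideal.mem_comap.2 h1
  rwa [h, Ideal.mem_bot] at this

/-- Over a valuation ring, a prime of a weakly etale algebra has one generization in the generic
fibre. -/
theorem eq_of_valuationRing {V B : Type u} [CommRing V] [IsDomain V] [ValuationRing V] [CommRing B]
    [Algebra V B] [Algebra.WeaklyEtale V B] (q₁ q₂ Q : PrimeSpectrum B)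
    (h₁ : q₁.asIdeal.comap (algebraMap V B) = ⊥) (h₂ : q₂.asIdeal.comap (algebraMap V B) = ⊥)
    (l₁ : q₁.asIdeal ≤ Q.asIdeal) (l₂ : q₂.asIdeal ≤ Q.asIdeal) : q₁ = q₂ := by
  have := flat_of_comap_eq_bot q₁.asIdeal h₁
  have := flat_of_comap_eq_bot q₂.asIdeal h₂
  let T := (B ⧸ q₁.asIdeal) ⊗[V] (B ⧸ q₂.asIdeal)
  let θ : T →ₐ[V] B ⧸ Q.asIdeal := Algebra.TensorProduct.lift
    (Ideal.Quotient.factorₐ V l₁) (Ideal.Quotient.factorₐ V l₂) fun _ _ => .all _ _
  let π : B ⊗[V] B →ₐ[V] T := Algebra.TensorProduct.map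
    (Ideal.Quotient.mkₐ V q₁.asIdeal) (Ideal.Quotient.mkₐ V q₂.asIdeal)
  let μ : B ⊗[V] B →ₐ[V] B := Algebra.TensorProduct.lmul' V
  let I : Ideal (B ⊗[V] B) := RingHom.ker μ
  have hpure : I.Pure := by
    let _ := μ.toRingHom.toAlgebra
    have : Module.Flat (B ⊗[V] B) B := Algebra.WeaklyEtale.flat_lmul' V B
    let e := Ideal.quotientKerAlgEquivOfSurjective (f := Algebra.ofId (B ⊗[V] B) B)
      (fun b => ⟨b ⊗ₜ 1, by simp [μ, RingHom.algebraMap_toAlgebra]⟩)
    exact Module.Flat.of_linearEquiv e.toLinearEquiv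
  let QT : Ideal T := RingHom.ker θ
  have : QT.IsPrime := RingHom.ker_isPrime θ.toRingHom
  obtain ⟨Q₀, hQ₀, hQ₀p, hQ₀o⟩ :=
    Ideal.exists_ideal_le_liesOver_of_le (p := (⊥ : Ideal V)) (q := QT.under V) QT bot_le
  have hI : I ≤ Q₀.comap π.toRingHom := by
    intro x hx
    obtain ⟨y, hy, hxy⟩ := Ideal.exists_eq_mul_of_pure (I := I) hx
    have h0 : π x * (1 - π y) ∈ Q₀ := by
      rw [show π x * (1 - π y) = 0 by rw [mul_sub, mul_one, ← map_mul, ← hxy, sub_self]]
      exact zero_mem _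
    refine (hQ₀p.mem_or_mem h0).resolve_right fun h1 => ?_
    have h2 : θ (1 - π y) = 0 := hQ₀ h1
    have hθπ : θ.comp π = (Ideal.Quotient.mkₐ V Q.asIdeal).comp μ :=
      Algebra.TensorProduct.ext' fun a b => by
        change θ (π (a ⊗ₜ b)) = Ideal.Quotient.mkₐ V Q.asIdeal (μ (a ⊗ₜ b))
        rw [Algebra.TensorProduct.map_tmul, Algebra.TensorProduct.lift_tmul,
          Algebra.TensorProduct.lmul'_apply_tmul, map_mul]
        rfl
    rw [map_sub, map_one, ← AlgHom.comp_apply, hθπ, AlgHom.comp_apply,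
      show μ y = 0 from hy, map_zero, sub_zero] at h2
    exact one_ne_zero h2
  let r : PrimeSpectrum B :=
    ⟨Q₀.comap (π.comp Algebra.TensorProduct.includeLeft).toRingHom, hQ₀p.comap _⟩
  have hr : r.asIdeal.comap (algebraMap V B) = ⊥ := by
    change (Q₀.comap (π.comp Algebra.TensorProduct.includeLeft).toRingHom).comap (algebraMap V B) = ⊥
    rw [Ideal.comap_comap, AlgHom.toRingHom_eq_coe, AlgHom.comp_algebraMap]
    exact hQ₀o.over.symm
  have hle₁ : q₁.asIdeal ≤ r.asIdeal := fun b hb => by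
    change π (b ⊗ₜ 1) ∈ Q₀
    rw [show π (b ⊗ₜ 1) = 0 by
      rw [Algebra.TensorProduct.map_tmul,
        show Ideal.Quotient.mkₐ V q₁.asIdeal b = 0 from Ideal.Quotient.eq_zero_iff_mem.2 hb,
        zero_tmul]]
    exact zero_mem _
  have hle₂ : q₂.asIdeal ≤ r.asIdeal := fun b hb => by
    change π (b ⊗ₜ 1) ∈ Q₀
    have h1 : π (b ⊗ₜ 1 - 1 ⊗ₜ b) ∈ Q₀ := hI (show μ _ = 0 by simp [μ])
    rwa [map_sub, show π (1 ⊗ₜ b) = 0 by
      rw [Algebra.TensorProduct.map_tmul,
        show Ideal.Quotient.mkₐ V q₂.asIdeal b = 0 from Ideal.Quotient.eq_zero_iff_mem.2 hb,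
        tmul_zero],
      sub_zero] at h1
  rw [incomparable_of_weaklyEtale q₁ r (h₁.trans hr.symm) hle₁,
    incomparable_of_weaklyEtale q₂ r (h₂.trans hr.symm) hle₂]

/-- Over a valuation ring, idempotents of the generic fibre come from the algebra. -/
theorem mem_range_of_valuationRing {V C CK : Type u} [CommRing V] [IsDomain V] [ValuationRing V]
    [CommRing C] [Algebra V C] [Algebra.WeaklyEtale V C] [CommRing CK] (ψ : C →+* CK)
    (hu : ∀ r : V, r ≠ 0 → IsUnit (ψ (algebraMap V C r)))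
    (hs : ∀ x : CK, ∃ r : V, r ≠ 0 ∧ ∃ c : C, ψ (algebraMap V C r) * x = ψ c)
    {e : CK} (he : IsIdempotentElem e) : e ∈ ψ.range := by
  let J : Ideal C :=
    { carrier := {c | ψ c * e ∈ ψ.range}
      zero_mem' := ⟨0, by simp⟩
      add_mem' := fun {a b} ha hb => by
        change ψ (a + b) * e ∈ ψ.range
        rw [map_add, add_mul]
        exact add_mem ha hb
      smul_mem' := fun c a ha => by
        change ψ (c * a) * e ∈ ψ.range
        rw [map_mul, mul_assoc]
        exact mul_mem ⟨c, rfl⟩ ha }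
  by_cases hJ : J = ⊤
  · have h1 : ψ 1 * e ∈ ψ.range := ((Ideal.eq_top_iff_one J).1 hJ : (1 : C) ∈ J)
    rwa [map_one, one_mul] at h1
  exfalso
  obtain ⟨M, hM, hJM⟩ := Ideal.exists_le_maximal J hJ
  have key : ∀ d : CK, IsIdempotentElem d → (∀ u ∉ M, ψ u * d ≠ 0) →
      ∃ P : PrimeSpectrum CK, d ∉ P.asIdeal ∧ P.asIdeal.comap ψ ≤ M ∧
        (P.asIdeal.comap ψ).comap (algebraMap V C) = ⊥ := by
    intro d hd hne
    let S : Submonoid CK := M.primeCompl.map ψ.toMonoidHom ⊔ Submonoid.powers d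
    have h0 : Disjoint ((⊥ : Ideal CK) : Set CK) (S : Set CK) := by
      refine Set.disjoint_left.2 fun x hx hxS => ?_
      obtain ⟨_, ⟨u, hu', rfl⟩, _, ⟨n, rfl⟩, hux⟩ := Submonoid.mem_sup.1 hxS
      rw [show x = 0 from hx] at hux
      refine hne u hu' ?_
      have h1 := congrArg (· * d) hux
      simp only [zero_mul] at h1
      rwa [mul_assoc, ← pow_succ, hd.pow_succ_eq] at h1
    obtain ⟨P, hP, -, hPd⟩ := Ideal.exists_le_prime_disjoint (⊥ : Ideal CK) S h0
    refine ⟨⟨P, hP⟩, fun hdP => Set.disjoint_left.1 hPd hdP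
      (Submonoid.mem_sup_right (Submonoid.mem_powers d)), fun c hc => ?_, eq_bot_iff.2 fun r hr => ?_⟩
    · by_contra hcM
      exact Set.disjoint_left.1 hPd hc (Submonoid.mem_sup_left ⟨c, hcM, rfl⟩)
    · by_contra hr0
      exact hP.ne_top (Ideal.eq_top_of_isUnit_mem _ hr (hu r hr0))
  obtain ⟨P, hP, hPM, hP0⟩ := key e he fun u hu' h0 => hu' (hJM (show ψ u * e ∈ ψ.range from
    h0 ▸ zero_mem _))
  obtain ⟨P', hP', hPM', hP0'⟩ := key (1 - e) he.one_sub fun u hu' h0 => hu' (hJM
    (show ψ u * e ∈ ψ.range from ⟨u, by rwa [mul_sub, mul_one, sub_eq_zero] at h0⟩))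
  have hcomap := eq_of_valuationRing (V := V) (PrimeSpectrum.comap ψ P) (PrimeSpectrum.comap ψ P')
    ⟨M, hM.isPrime⟩ hP0 hP0' hPM hPM'
  have hPP : P = P' := by
    refine PrimeSpectrum.ext (Ideal.ext fun x => ?_)
    obtain ⟨r, hr, c, hc⟩ := hs x
    have h1 : ∀ R : PrimeSpectrum CK, x ∈ R.asIdeal ↔ c ∈ R.asIdeal.comap ψ := fun R => by
      rw [Ideal.mem_comap, ← hc, Ideal.unit_mul_mem_iff_mem _ (hu r hr)]
    rw [h1 P, h1 P', show P.asIdeal.comap ψ = P'.asIdeal.comap ψ from
      congrArg PrimeSpectrum.asIdeal hcomap]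
  have h0 : e * (1 - e) ∈ P.asIdeal := by rw [he.mul_one_sub_self]; exact zero_mem _
  exact (P.2.mem_or_mem h0).elim hP (hPP ▸ hP')

end Groth.EtaleDeep.Olivier
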